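import Groth.Agent.An92.FSch.Thick
import Mathlib.AlgebraicGeometry.Morphisms.SmoothFiber
import Mathlib.RingTheory.FinitePresentation

/-!
Smoothness of levelwise flat adic morphisms from smoothness of the bottom level.
-/

set_option autoImplicit false
set_option backward.isDefEq.respectTransparency.types false

universe u

open CategoryTheory CategoryTheory.Limits AlgebraicGeometry

namespace Groth.Agent.FSmooth27

theorem finiteType_of_nilpotent_ker {A B C : Type u} [CommRing A] [CommRing B] [CommRing C] [IsNoetherianRing B]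
    (φ : A →+* B) (p : B →+* C) (hp : Function.Surjective p) (hn : ∃ m, RingHom.ker p ^ m = ⊥)
    (h : (p.comp φ).FiniteType) : φ.FiniteType := by
  classical
  algebraize [φ, p.comp φ]
  obtain ⟨s, hs⟩ := (h : Algebra.FiniteType A C).out
  obtain ⟨m, hm⟩ := hn
  obtain ⟨t, ht⟩ := IsNoetherian.noetherian (RingHom.ker p)
  choose l hl using hp
  let S : Subalgebra A B := Algebra.adjoin A (↑(s.image l ∪ t) : Set B)
  let pa : B →ₐ[A] C := { p with commutes' := fun _ => rfl }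
  have hsurj : S.map pa = ⊤ := by
    rw [eq_top_iff, ← hs, Algebra.adjoin_le_iff]
    intro c hc
    exact ⟨l c, Algebra.subset_adjoin (by simp [Finset.mem_coe.mp hc]; exact Or.inl ⟨c, hc, rfl⟩), hl c⟩
  have h1 : ∀ b : B, ∃ x ∈ S, b - x ∈ RingHom.ker p := fun b => by
    obtain ⟨x, hx, hxb⟩ := (hsurj ▸ Algebra.mem_top : p b ∈ S.map pa)
    exact ⟨x, hx, by rw [RingHom.mem_ker, map_sub]; exact sub_eq_zero.mpr hxb.symm⟩
  have hj : ∀ j : ℕ, ∀ b : B, ∃ x ∈ S, b - x ∈ RingHom.ker p ^ j := by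
    intro j
    induction j with
    | zero => exact fun b => ⟨0, zero_mem _, by simp⟩
    | succ j ih =>
      intro b
      obtain ⟨x, hx, hbx⟩ := h1 b
      suffices ∀ k ∈ RingHom.ker p, ∃ y ∈ S, k - y ∈ RingHom.ker p ^ (j + 1) by
        obtain ⟨y, hy, hky⟩ := this _ hbx
        exact ⟨x + y, add_mem hx hy, by rwa [← sub_sub]⟩
      intro k hk
      rw [← ht] at hk
      refine Submodule.span_induction (p := fun k _ => ∃ y ∈ S, k - y ∈ RingHom.ker p ^ (j + 1)) ?_
        ⟨0, zero_mem _, by simp⟩ ?_ ?_ hk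
      · intro g hg
        exact ⟨g, Algebra.subset_adjoin (by simp [Finset.mem_coe.mp hg]), by simp⟩
      · rintro a a' - - ⟨y, hy, ha⟩ ⟨y', hy', ha'⟩
        exact ⟨y + y', add_mem hy hy', by rw [add_sub_add_comm]; exact add_mem ha ha'⟩
      · rintro c a hamem ⟨y, hy, ha⟩
        obtain ⟨c', hc', hcc'⟩ := ih c
        refine ⟨c' * y, mul_mem hc' hy, ?_⟩
        have hak : a ∈ RingHom.ker p := ht ▸ hamem
        have e : c • a - c' * y = c' * (a - y) + (c - c') * a := by rw [smul_eq_mul]; ring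
        rw [e]
        exact add_mem (Ideal.mul_mem_left _ _ ha) (by rw [pow_succ]; exact Ideal.mul_mem_mul hcc' hak)
  refine ⟨⟨s.image l ∪ t, eq_top_iff.mpr fun b _ => ?_⟩⟩
  obtain ⟨x, hx, hb⟩ := hj m b
  rw [hm, Ideal.mem_bot, sub_eq_zero] at hb
  exact hb ▸ hx

theorem locallyOfFiniteType_of_thickening {X₀ X Y : Scheme.{u}} [IsLocallyNoetherian X] (i : X₀ ⟶ X)
    [IsClosedImmersion i] (f : X ⟶ Y) (hn : ∃ m, i.ker ^ m = ⊥) [LocallyOfFiniteType (i ≫ f)] :
    LocallyOfFiniteType f := by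
  rw [HasRingHomProperty.iff_appLE (P := @LocallyOfFiniteType)]
  intro U V e
  haveI : IsNoetherianRing Γ(X, V.1) := IsLocallyNoetherian.component_noetherian V
  obtain ⟨m, hm⟩ := hn
  refine finiteType_of_nilpotent_ker _ (i.app V.1).hom (i.app_surjective V.1 V.2) ⟨m, ?_⟩ ?_
  · rw [← Scheme.Hom.ker_apply i V]
    have := congrArg (fun K => K.ideal V) hm
    simpa using this
  · have h' := HasRingHomProperty.appLE (P := @LocallyOfFiniteType) (i ≫ f) inferInstance U
      ⟨i ⁻¹ᵁ V.1, V.2.preimage i⟩ (fun x hx => e hx)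
    convert h' using 1
    rw [← CommRingCat.hom_comp]
    congr 1
    rw [Scheme.Hom.app_eq_appLE, Scheme.Hom.appLE_comp_appLE]

theorem locallyOfFinitePresentation_of_lft {X Y : Scheme.{u}} (f : X ⟶ Y) [IsLocallyNoetherian Y]
    [LocallyOfFiniteType f] : LocallyOfFinitePresentation f := by
  rw [HasRingHomProperty.iff_appLE (P := @LocallyOfFinitePresentation)]
  intro U V e
  haveI : IsNoetherianRing Γ(Y, U.1) := IsLocallyNoetherian.component_noetherian U
  exact RingHom.FinitePresentation.of_finiteType.mp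
    (HasRingHomProperty.appLE (P := @LocallyOfFiniteType) f inferInstance U V e)

theorem isIso_residueFieldMap {X Y : Scheme.{u}} (i : X ⟶ Y) [IsClosedImmersion i] (x : X) :
    IsIso (i.residueFieldMap x) := by
  rw [ConcreteCategory.isIso_iff_bijective]
  refine ⟨(i.residueFieldMap x).hom.injective, fun c => ?_⟩
  obtain ⟨c, rfl⟩ := IsLocalRing.residue_surjective c
  obtain ⟨b, hb⟩ := i.stalkMap_surjective x c
  refine ⟨IsLocalRing.residue _ b, ?_⟩
  rw [← hb]
  rfl

open _root_.FSch An92.FSch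

theorem smooth_levels {𝔛 𝔜 : Sys.{u}} (h𝔛 : 𝔛.IsLocNoethFormal) (h𝔜 : 𝔜.IsLocNoethFormal) (f : 𝔛 ⟶ 𝔜)
    (hf : IsAdicHom f) (n : ℕ) [Flat ((f : Hom 𝔛 𝔜).app n)] [Smooth ((f : Hom 𝔛 𝔜).app 0)] :
    Smooth ((f : Hom 𝔛 𝔜).app n) := by
  obtain ⟨hX, hXA, hXN⟩ := h𝔛
  obtain ⟨hY, -, hYN⟩ := h𝔜
  haveI := hXN n
  haveI := hYN n
  haveI := isClosedImmersion_toX hX n
  haveI := isClosedImmersion_toX hY n
  have hsq := isPullback_toX hf n
  haveI : LocallyOfFiniteType (𝔛.toX n ≫ (f : Hom 𝔛 𝔜).app n) := by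
    rw [hsq.w]
    infer_instance
  haveI := locallyOfFiniteType_of_thickening (𝔛.toX n) ((f : Hom 𝔛 𝔜).app n) ⟨n + 1, ker_toX_pow_eq_bot hX hXA n⟩
  haveI := locallyOfFinitePresentation_of_lft ((f : Hom 𝔛 𝔜).app n)
  refine Smooth.of_smooth_fiberToSpecResidueField _ fun y => ?_
  have hsurj : ∀ k, Function.Surjective (𝔜.toX k).base := by
    intro k
    induction k with
    | zero => exact fun z => ⟨z, rfl⟩
    | succ k ih =>
      intro z
      obtain ⟨w, rfl⟩ := (hY k).2 z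
      obtain ⟨v, rfl⟩ := ih w
      exact ⟨v, rfl⟩
  obtain ⟨y₀, rfl⟩ := hsurj n y
  haveI := isIso_residueFieldMap (𝔜.toX n) y₀
  let a : Spec ((𝔜.X n).residueField ((𝔜.toX n) y₀)) ⟶ 𝔜.X 0 :=
    inv (Spec.map ((𝔜.toX n).residueFieldMap y₀)) ≫ (𝔜.X 0).fromSpecResidueField y₀
  have ha : a ≫ 𝔜.toX n = (𝔜.X n).fromSpecResidueField _ := by
    rw [Category.assoc, IsIso.inv_comp_eq]
    exact ((𝔜.toX n).SpecMap_residueFieldMap_fromSpecResidueField y₀).symm
  have h1 : IsPullback (pullback.fst ((f : Hom 𝔛 𝔜).app 0) a) (pullback.snd ((f : Hom 𝔛 𝔜).app 0) a)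
      ((f : Hom 𝔛 𝔜).app 0) a := IsPullback.of_hasPullback _ _
  have h2 := h1.paste_horiz hsq
  rw [ha] at h2
  have h3 : Smooth (pullback.snd ((f : Hom 𝔛 𝔜).app 0) a) := inferInstance
  have e := h2.isoPullback_hom_snd
  change Smooth (pullback.snd _ _)
  rw [← Iso.eq_inv_comp] at e
  rw [e]
  infer_instance

end Groth.Agent.FSmooth27
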